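import Mathlib
import Cfsg.Agent.H31.BR.PolInst
import Cfsg.Agent.H770.CY.Defs

/-!
# S4829, polar spaces: `MulAut S` acts on the totally singular `k`-spaces (helper221)

`LInd Φ ρ π a f` : the automorphism `f` of the lattice of subspaces preserves `Φ` and induces the automorphism `a` of `S`.
`ind_unique` : two such `f` agree on the totally singular subspaces.
`autAction` : the action of `MulAut S` on `Φ.X k`, `autAct` : it preserves the types of pairs, `conj_smul` : inner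
automorphisms act as the elements of `S`.
-/

set_option autoImplicit false
set_option linter.unusedSectionVars false

open Module Subgroup Cfsg
open Cfsg.Agent.H2.Pol Cfsg.Agent.H674.BR Cfsg.Agent.H646.BR Cfsg.Agent.H145.BR Cfsg.Agent.H623.BR

namespace Cfsg.Agent.H221.CY

section lind

variable {F V : Type*} [Field F] [AddCommGroup V] [Module F V] [FiniteDimensional F V] {G S : Type*} [Group G] [Group S]

/-- lattice automorphisms preserving `Φ` and inducing `a` -/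
structure LInd (Φ : Pol F V) (ρ : G →* (V ≃ₗ[F] V)) (π : G →* S) (a : MulAut S)
    (f : Submodule F V ≃o Submodule F V) : Prop where
  fin : ∀ U, finrank F ↥(f U) = finrank F ↥U
  orth : ∀ U W, Φ.Orth (f U) (f W) ↔ Φ.Orth U W
  ti : ∀ U, Φ.TI (f U) ↔ Φ.TI U
  comm : ∀ g g' : G, π g' = a (π g) → ∀ U : Submodule F V,
    (f U).map (ρ g' : V →ₗ[F] V) = f (U.map (ρ g : V →ₗ[F] V))

variable {Φ : Pol F V} {ρ : G →* (V ≃ₗ[F] V)} {π : G →* S}

theorem LInd.mul {a b : MulAut S} {f f' : Submodule F V ≃o Submodule F V} (hs : Function.Surjective π)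
    (h : LInd Φ ρ π a f) (h' : LInd Φ ρ π b f') : LInd Φ ρ π (a * b) (f'.trans f) where
  fin U := (h.fin _).trans (h'.fin U)
  orth U W := (h.orth _ _).trans (h'.orth U W)
  ti U := (h.ti _).trans (h'.ti U)
  comm g g' hg U := by
    obtain ⟨g1, hg1⟩ := hs (b (π g))
    have h1 := h'.comm g g1 hg1 U
    have h2 := h.comm g1 g' (by rw [hg1]; exact hg) (f' U)
    show (f (f' U)).map (ρ g' : V →ₗ[F] V) = f (f' (U.map (ρ g : V →ₗ[F] V)))
    rw [h2, h1]

theorem LInd.symm {a : MulAut S} {f : Submodule F V ≃o Submodule F V} (h : LInd Φ ρ π a f) :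
    LInd Φ ρ π a⁻¹ f.symm where
  fin U := by rw [← h.fin, f.apply_symm_apply]
  orth U W := by rw [← h.orth, f.apply_symm_apply, f.apply_symm_apply]
  ti U := by rw [← h.ti, f.apply_symm_apply]
  comm g g' hg U := by
    apply f.injective
    have h1 := h.comm g' g (by rw [hg, MulAut.apply_inv_self]) (f.symm U)
    rw [f.apply_symm_apply] at h1
    rw [f.apply_symm_apply, h1]

theorem LInd.of_map (hm : Model Φ ρ π) (g : G) :
    LInd Φ ρ π (MulAut.conj (π g)) (Submodule.orderIsoMapComap (ρ g)) where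
  fin U := LinearEquiv.finrank_map_eq (ρ g) U
  orth U W := by
    have key : ∀ (g : G) (U W : Submodule F V), Φ.Orth U W →
        Φ.Orth (U.map (ρ g : V →ₗ[F] V)) (W.map (ρ g : V →ₗ[F] V)) := by
      rintro g U W h _ ⟨x, hx, rfl⟩ _ ⟨y, hy, rfl⟩
      exact hm.orth g x y (h x hx y hy)
    refine ⟨fun h => ?_, key g U W⟩
    have h1 := key g⁻¹ _ _ h
    have h2 : ∀ U : Submodule F V, (U.map (ρ g : V →ₗ[F] V)).map (ρ g⁻¹ : V →ₗ[F] V) = U := by
      intro U
      rw [← Submodule.map_comp]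
      have h3 : ((ρ g⁻¹ : V ≃ₗ[F] V) : V →ₗ[F] V).comp ((ρ g : V ≃ₗ[F] V) : V →ₗ[F] V) = LinearMap.id := by
        ext v
        show (ρ g⁻¹ * ρ g) v = v
        rw [← map_mul, inv_mul_cancel, map_one]
        rfl
      rw [h3, Submodule.map_id]
    have h4 : Φ.Orth ((U.map (ρ g : V →ₗ[F] V)).map (ρ g⁻¹ : V →ₗ[F] V))
        ((W.map (ρ g : V →ₗ[F] V)).map (ρ g⁻¹ : V →ₗ[F] V)) := h1
    rwa [h2, h2] at h4
  ti U := by
    refine ⟨fun h => ?_, fun h => hm.ti g h⟩
    have h1 := hm.ti g⁻¹ h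
    have h2 : (U.map (ρ g : V →ₗ[F] V)).map (ρ g⁻¹ : V →ₗ[F] V) = U := by
      rw [← Submodule.map_comp]
      have h3 : ((ρ g⁻¹ : V ≃ₗ[F] V) : V →ₗ[F] V).comp ((ρ g : V ≃ₗ[F] V) : V →ₗ[F] V) = LinearMap.id := by
        ext v
        show (ρ g⁻¹ * ρ g) v = v
        rw [← map_mul, inv_mul_cancel, map_one]
        rfl
      rw [h3, Submodule.map_id]
    have h4 : Φ.TI ((U.map (ρ g : V →ₗ[F] V)).map (ρ g⁻¹ : V →ₗ[F] V)) := h1
    rwa [h2] at h4
  comm g₀ g' hg U := by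
    have h1 : π (g' * g * g₀⁻¹ * g⁻¹) = 1 := by
      rw [map_mul, map_mul, map_mul, map_inv, map_inv, hg, MulAut.conj_apply]
      group
    have h2 := hm.ker _ h1 ((U.map (ρ g₀ : V →ₗ[F] V)).map (ρ g : V →ₗ[F] V))
    have h3 : ∀ (u v : G) (U : Submodule F V), (U.map (ρ v : V →ₗ[F] V)).map (ρ u : V →ₗ[F] V) =
        U.map (ρ (u * v) : V →ₗ[F] V) := by
      intro u v U
      rw [← Submodule.map_comp]
      congr 1
      rw [map_mul]
      rfl
    show (U.map (ρ g : V →ₗ[F] V)).map (ρ g' : V →ₗ[F] V) = (U.map (ρ g₀ : V →ₗ[F] V)).map (ρ g : V →ₗ[F] V)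
    simp only [h3] at h2 ⊢
    rw [← h2]
    congr 3
    group

/-- from semisimilarities -/
theorem exists_lInd' (hm : Model Φ ρ π) {a : MulAut S} {M : V ≃+ V} (hM : SemiAct Φ M) (hi : Induces ρ π M a) :
    ∃ f, LInd Φ ρ π a f ∧ ∀ U, f U = hM.sub U := by
  have hle : ∀ {M : V ≃+ V} (hM : SemiAct Φ M) {U W : Submodule F V}, U ≤ W → hM.sub U ≤ hM.sub W := by
    rintro M hM U W h _ ⟨x, hx, rfl⟩
    exact ⟨x, h hx, rfl⟩
  have horth : ∀ {M : V ≃+ V} (hM : SemiAct Φ M) {U W : Submodule F V}, Φ.Orth U W → Φ.Orth (hM.sub U) (hM.sub W) := by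
    rintro M hM U W h _ ⟨x, hx, rfl⟩ _ ⟨y, hy, rfl⟩
    exact (hM.orth x y).2 (h x hx y hy)
  refine ⟨{ toFun := hM.sub, invFun := hM.symm.sub, left_inv := hM.sub_symm_sub, right_inv := hM.sub_sub_symm,
            map_rel_iff' := fun {U W} => ⟨fun h => ?_, fun h => hle hM h⟩ }, ?_, fun _ => rfl⟩
  · have h1 := hle hM.symm h
    have h2 : hM.symm.sub (hM.sub U) ≤ hM.symm.sub (hM.sub W) := h1
    rwa [hM.sub_symm_sub, hM.sub_symm_sub] at h2
  · refine ⟨fun U => hM.finrank U, fun U W => ⟨fun h => ?_, fun h => horth hM h⟩, fun U => ⟨fun h => ?_, fun h => hM.ti h⟩,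
      fun g g' hg U => ?_⟩
    · have h1 : Φ.Orth (hM.symm.sub (hM.sub U)) (hM.symm.sub (hM.sub W)) := horth hM.symm h
      rwa [hM.sub_symm_sub, hM.sub_symm_sub] at h1
    · have h1 : Φ.TI (hM.symm.sub (hM.sub U)) := hM.symm.ti h
      rwa [hM.sub_symm_sub] at h1
    · obtain ⟨g1, hg1, hv⟩ := hi g
      show (hM.sub U).map (ρ g' : V →ₗ[F] V) = hM.sub (U.map (ρ g : V →ₗ[F] V))
      have key : (hM.sub U).map (ρ g1 : V →ₗ[F] V) = hM.sub (U.map (ρ g : V →ₗ[F] V)) := by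
        ext v
        constructor
        · rintro ⟨_, ⟨x, hx, rfl⟩, rfl⟩
          exact ⟨ρ g x, ⟨x, hx, rfl⟩, (hv x).symm⟩
        · rintro ⟨_, ⟨x, hx, rfl⟩, rfl⟩
          exact ⟨M x, ⟨x, hx, rfl⟩, hv x⟩
      rw [← key]
      have h1 : π (g1⁻¹ * g') = 1 := by rw [map_mul, map_inv, hg1, hg, inv_mul_cancel]
      have h2 := hm.ker _ h1 (hM.sub U)
      have h3 : (((hM.sub U).map (ρ (g1⁻¹ * g') : V →ₗ[F] V)).map (ρ g1 : V →ₗ[F] V)) =
          (hM.sub U).map (ρ g' : V →ₗ[F] V) := by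
        rw [← Submodule.map_comp]
        congr 1
        ext v
        show (ρ g1 * ρ (g1⁻¹ * g')) v = ρ g' v
        rw [← map_mul, mul_inv_cancel_left]
      rw [← h3, h2]

theorem exists_lInd (hm : Model Φ ρ π) {a : MulAut S} {M : V ≃+ V} (hM : SemiAct Φ M) (hi : Induces ρ π M a) :
    ∃ f, LInd Φ ρ π a f := (exists_lInd' hm hM hi).imp fun _ h => h.1

/-- the point of a singular vector -/
def pt (Φ : Pol F V) {x : V} (hx : Φ.sing x) (hxx : Φ.L x x = 0) (h0 : x ≠ 0) : Φ.X 1 :=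
  ⟨Submodule.span F {x}, ⟨⟨by
    intro y hy
    obtain ⟨c, rfl⟩ := Submodule.mem_span_singleton.1 hy
    exact Φ.sing_smul c x hx, by
    intro y hy z hz
    obtain ⟨c, rfl⟩ := Submodule.mem_span_singleton.1 hy
    obtain ⟨d, rfl⟩ := Submodule.mem_span_singleton.1 hz
    rw [map_smul]
    have h1 : Φ.L (d • x) x = 0 := by
      apply Φ.refl
      rw [map_smul, hxx, smul_zero]
    rw [h1, smul_zero]⟩, finrank_span_singleton h0⟩⟩

theorem exists_rep (P : Φ.X 1) : ∃ (x : V) (hx : Φ.sing x) (hxx : Φ.L x x = 0) (h0 : x ≠ 0), P = pt Φ hx hxx h0 := by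
  obtain ⟨U, hU, hf⟩ := P
  obtain ⟨x, hx0, hx⟩ := finrank_eq_one_iff'.1 hf
  have hxU := x.2
  refine ⟨x, hU.1 _ hxU, hU.2 _ hxU _ hxU, fun h => hx0 (Subtype.ext h), Subtype.ext ?_⟩
  apply le_antisymm
  · intro y hy
    obtain ⟨c, hc⟩ := hx ⟨y, hy⟩
    exact Submodule.mem_span_singleton.2 ⟨c, congrArg Subtype.val hc⟩
  · rw [pt, Submodule.span_singleton_le_iff_mem]
    exact hxU

open scoped Classical in
theorem typ_point (P R : Φ.X 1) : typ Φ P.1 R.1 = (if P = R then 1 else 0, if Φ.Orth P.1 R.1 then 1 else 0) := by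
  have h1 : ∀ Y : Submodule F V, finrank F ↥(P.1 ⊓ Y) = if P.1 ≤ Y then 1 else 0 := by
    intro Y
    split_ifs with h
    · rw [inf_eq_left.2 h]
      exact P.2.2
    · have h2 : finrank F ↥(P.1 ⊓ Y) < finrank F ↥P.1 := by
        apply Submodule.finrank_lt_finrank_of_lt
        exact lt_of_le_of_ne inf_le_left fun h3 => h (inf_eq_left.1 h3)
      rw [P.2.2] at h2
      omega
  rw [typ, h1, h1]
  congr 1
  · by_cases h : P = R
    · rw [if_pos h, if_pos (by rw [h])]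
    · rw [if_neg h, if_neg]
      intro h2
      apply h
      exact Subtype.ext (Submodule.eq_of_le_of_finrank_eq h2 (P.2.2.trans R.2.2.symm))

theorem pt_eq {x y : V} {hx : Φ.sing x} {hxx : Φ.L x x = 0} {hx0 : x ≠ 0} {hy : Φ.sing y} {hyy : Φ.L y y = 0}
    {hy0 : y ≠ 0} (h : x ∈ Submodule.span F {y}) : pt Φ hx hxx hx0 = pt Φ hy hyy hy0 := by
  apply Subtype.ext
  refine Submodule.eq_of_le_of_finrank_eq ?_ ((pt Φ hx hxx hx0).2.2.trans (pt Φ hy hyy hy0).2.2.symm)
  exact (Submodule.span_singleton_le_iff_mem _ _).2 h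

theorem mem_of_pt_eq {x y : V} {hx : Φ.sing x} {hxx : Φ.L x x = 0} {hx0 : x ≠ 0} {hy : Φ.sing y} {hyy : Φ.L y y = 0}
    {hy0 : y ≠ 0} (h : pt Φ hx hxx hx0 = pt Φ hy hyy hy0) : x ∈ Submodule.span F {y} := by
  have h1 : Submodule.span F {x} = Submodule.span F {y} := congrArg Subtype.val h
  rw [← h1]
  exact Submodule.mem_span_singleton_self x

theorem orth_pt {x y : V} {hx : Φ.sing x} {hxx : Φ.L x x = 0} {hx0 : x ≠ 0} {hy : Φ.sing y} {hyy : Φ.L y y = 0}
    {hy0 : y ≠ 0} : Φ.Orth (pt Φ hx hxx hx0).1 (pt Φ hy hyy hy0).1 ↔ Φ.L y x = 0 := by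
  refine ⟨fun h => h x (Submodule.mem_span_singleton_self x) y (Submodule.mem_span_singleton_self y), fun h => ?_⟩
  intro u hu v hv
  obtain ⟨a, rfl⟩ := Submodule.mem_span_singleton.1 hu
  obtain ⟨b, rfl⟩ := Submodule.mem_span_singleton.1 hv
  have h1 : Φ.L (b • y) x = 0 := by
    apply Φ.refl
    rw [map_smul, Φ.refl _ _ h, smul_zero]
  rw [map_smul, h1, smul_zero]

end lind

section inst

variable {p : ℕ} {F V : Type*} {G H S : Type*} [Field F] [Fintype F] [AddCommGroup V] [Module F V]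
  [FiniteDimensional F V] [Group G] [Group H] [Group S] {Φ : Pol F V} {ρ : G →* (V ≃ₗ[F] V)} {ι : H →* G}
  {ρ' : H →* (V ≃ₗ[F] V)} {π : H →* S} {w ε K : ℕ}

open Cfsg.Agent.H31.BR

/-- uniqueness on points -/
theorem point_fixed (I : PolInst p Φ ρ ι ρ' π w ε K) (h1 : 1 ≤ K) (h3 : 3 ≤ Nat.card (Φ.X 1))
    {f : Submodule F V ≃o Submodule F V} (hf : LInd Φ ρ' π 1 f) (P : Φ.X 1) : f P.1 = P.1 := by
  classical
  let c : Φ.X 1 → Φ.X 1 := fun P => ⟨f P.1, (hf.ti _).2 P.2.1, (hf.fin _).trans P.2.2⟩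
  have key : ∀ P' R' : Φ.X 1, typ Φ P'.1 R'.1 = typ Φ P.1 (c P).1 → R' = c P' := by
    intro P' R' h
    obtain ⟨g, e1, e2⟩ := I.pair 1 le_rfl h1 P (c P) P' R' h.symm
    apply Subtype.ext
    show R'.1 = f P'.1
    rw [← e2, ← e1]
    exact hf.comm g g rfl P.1
  by_contra hne
  have hcP : c P ≠ P := fun h => hne (congrArg Subtype.val h)
  obtain ⟨R, hR⟩ : ∃ R, R = c P := ⟨_, rfl⟩
  rw [← hR] at key hcP
  obtain ⟨x, hx, hxx, hx0, rfl⟩ := exists_rep P
  obtain ⟨y, hy, hyy, hy0, rfl⟩ := exists_rep R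
  have hxy : x ∉ Submodule.span F {y} := fun h => hcP (pt_eq h).symm
  have hyx : y ∉ Submodule.span F {x} := fun h => hcP (pt_eq h)
  by_cases ho : Φ.Orth (pt Φ hx hxx hx0).1 (pt Φ hy hyy hy0).1
  · have h4 := orth_pt.1 ho
    have hz : Φ.sing (x + y) := Φ.sing_add x y hx hy h4
    have hzz : Φ.L (x + y) (x + y) = 0 := by
      rw [I.La, map_add, map_add, hxx, hyy, h4, Φ.refl _ _ h4]
      simp
    have hz0 : x + y ≠ 0 := by
      intro h
      apply hyx
      rw [eq_neg_of_add_eq_zero_right h]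
      exact Submodule.neg_mem _ (Submodule.mem_span_singleton_self x)
    have h5 : pt Φ hx hxx hx0 ≠ pt Φ hz hzz hz0 := by
      intro h
      apply hyx
      have h6 := mem_of_pt_eq h.symm
      have h7 := Submodule.sub_mem _ h6 (Submodule.mem_span_singleton_self x)
      rwa [add_sub_cancel_left] at h7
    have h6 : Φ.Orth (pt Φ hx hxx hx0).1 (pt Φ hz hzz hz0).1 := by
      rw [orth_pt, I.La, hxx, h4, add_zero]
    have h7 := key _ (pt Φ hz hzz hz0) (by
      rw [typ_point, typ_point, if_neg h5, if_neg hcP.symm, if_pos h6, if_pos ho])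
    rw [← hR] at h7
    apply hxy
    have h8 := mem_of_pt_eq h7
    have h9 := Submodule.sub_mem _ h8 (Submodule.mem_span_singleton_self y)
    rwa [add_sub_cancel_right] at h9
  · have h4 : Φ.L y x ≠ 0 := fun h => ho (orth_pt.2 h)
    have h4' : Φ.L x y ≠ 0 := fun h => h4 (Φ.refl _ _ h)
    have hcR : pt Φ hx hxx hx0 = c (pt Φ hy hyy hy0) := by
      apply key
      rw [typ_point, typ_point, if_neg hcP, if_neg hcP.symm, if_neg ho, if_neg fun h => ho h.symm]
    -- a third point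
    obtain ⟨T, hTP, hTR⟩ : ∃ T : Φ.X 1, T ≠ pt Φ hx hxx hx0 ∧ T ≠ pt Φ hy hyy hy0 := by
      by_contra hcon
      push Not at hcon
      have h5 : Nat.card (Φ.X 1) ≤ 2 := by
        have h6 : (Set.univ : Set (Φ.X 1)) ⊆ {pt Φ hx hxx hx0, pt Φ hy hyy hy0} := by
          intro T _
          by_cases hT : T = pt Φ hx hxx hx0
          · exact Or.inl hT
          · exact Or.inr (hcon T hT)
        have h7 := Set.ncard_le_ncard h6 (Set.toFinite _)
        rw [Set.ncard_univ] at h7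
        exact h7.trans (Set.ncard_insert_le _ _ |>.trans (by rw [Set.ncard_singleton]))
      omega
    have hPT : Φ.Orth (pt Φ hx hxx hx0).1 T.1 := by
      by_contra h5
      apply hTR
      rw [hR]
      apply key
      rw [typ_point, typ_point, if_neg hTP.symm, if_neg hcP.symm, if_neg h5, if_neg ho]
    have hRT : Φ.Orth (pt Φ hy hyy hy0).1 T.1 := by
      by_contra h5
      apply hTP
      rw [hcR]
      apply key
      rw [typ_point, typ_point, if_neg hTR.symm, if_neg hcP.symm, if_neg h5, if_neg ho]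
    obtain ⟨t, ht, htt, ht0, rfl⟩ := exists_rep T
    have h5 := orth_pt.1 hPT
    have h6 := orth_pt.1 hRT
    have htx : t ∉ Submodule.span F {x} := fun h => hTP (pt_eq h)
    have hz : Φ.sing (x + t) := Φ.sing_add x t hx ht h5
    have hzz : Φ.L (x + t) (x + t) = 0 := by
      rw [I.La, map_add, map_add, hxx, htt, h5, Φ.refl _ _ h5]
      simp
    have hz0 : x + t ≠ 0 := by
      intro h
      apply htx
      rw [eq_neg_of_add_eq_zero_right h]
      exact Submodule.neg_mem _ (Submodule.mem_span_singleton_self x)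
    have hno : ¬ Φ.Orth (pt Φ hy hyy hy0).1 (pt Φ hz hzz hz0).1 := by
      rw [orth_pt, I.La, h6, add_zero]
      exact h4'
    have hne2 : pt Φ hy hyy hy0 ≠ pt Φ hz hzz hz0 := by
      intro h
      apply ho
      rw [h, orth_pt, I.La, hxx, zero_add]
      exact h5
    have h7 := key (pt Φ hy hyy hy0) (pt Φ hz hzz hz0) (by
      rw [typ_point, typ_point, if_neg hne2, if_neg hcP.symm, if_neg hno, if_neg ho])
    rw [← hcR] at h7
    apply htx
    have h8 := mem_of_pt_eq h7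
    have h9 := Submodule.sub_mem _ h8 (Submodule.mem_span_singleton_self x)
    rwa [add_sub_cancel_left] at h9

/-- uniqueness on totally singular subspaces -/
theorem ti_fixed (I : PolInst p Φ ρ ι ρ' π w ε K) (h1 : 1 ≤ K) (h3 : 3 ≤ Nat.card (Φ.X 1))
    {f : Submodule F V ≃o Submodule F V} (hf : LInd Φ ρ' π 1 f) {U : Submodule F V} (hU : Φ.TI U) : f U = U := by
  symm
  refine Submodule.eq_of_le_of_finrank_eq (fun x hx => ?_) (hf.fin U).symm
  by_cases hx0 : x = 0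
  · rw [hx0]
    exact Submodule.zero_mem _
  · have h4 := point_fixed I h1 h3 hf (pt Φ (hU.1 x hx) (hU.2 x hx x hx) hx0)
    have h5 : Submodule.span F {x} ≤ U := (Submodule.span_singleton_le_iff_mem _ _).2 hx
    have h6 : f (Submodule.span F {x}) ≤ f U := f.monotone h5
    have h7 : f (Submodule.span F {x}) = Submodule.span F {x} := h4
    rw [h7] at h6
    exact h6 (Submodule.mem_span_singleton_self x)

/-- **uniqueness** -/
theorem lInd_unique (I : PolInst p Φ ρ ι ρ' π w ε K) (h1 : 1 ≤ K) (h3 : 3 ≤ Nat.card (Φ.X 1)) {a : MulAut S}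
    {f f' : Submodule F V ≃o Submodule F V} (hf : LInd Φ ρ' π a f) (hf' : LInd Φ ρ' π a f') {U : Submodule F V}
    (hU : Φ.TI U) : f U = f' U := by
  have h4 : LInd Φ ρ' π 1 (f'.trans f.symm) := by
    have h5 := hf.symm.mul I.model.surj hf'
    rwa [inv_mul_cancel] at h5
  have h6 : f.symm (f' U) = U := ti_fixed I h1 h3 h4 hU
  rw [← h6, f.apply_symm_apply, h6]

variable (hall : ∀ a : MulAut S, ∃ M : V ≃+ V, SemiAct Φ M ∧ Induces ρ' π M a)

/-- the chosen lattice automorphism -/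
noncomputable def lat (I : PolInst p Φ ρ ι ρ' π w ε K)
    (hall : ∀ a : MulAut S, ∃ M : V ≃+ V, SemiAct Φ M ∧ Induces ρ' π M a) (a : MulAut S) :
    Submodule F V ≃o Submodule F V :=
  (exists_lInd I.model (hall a).choose_spec.1 (hall a).choose_spec.2).choose

theorem lat_spec (I : PolInst p Φ ρ ι ρ' π w ε K)
    (hall : ∀ a : MulAut S, ∃ M : V ≃+ V, SemiAct Φ M ∧ Induces ρ' π M a) (a : MulAut S) :
    LInd Φ ρ' π a (lat I hall a) :=
  (exists_lInd I.model (hall a).choose_spec.1 (hall a).choose_spec.2).choose_spec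

/-- **the action of `MulAut S`** -/
@[reducible] noncomputable def autAction (I : PolInst p Φ ρ ι ρ' π w ε K) (h1 : 1 ≤ K) (h3 : 3 ≤ Nat.card (Φ.X 1))
    (hall : ∀ a : MulAut S, ∃ M : V ≃+ V, SemiAct Φ M ∧ Induces ρ' π M a) (k : ℕ) : MulAction (MulAut S) (Φ.X k) where
  smul a U := ⟨lat I hall a U.1, ((lat_spec I hall a).ti _).2 U.2.1, ((lat_spec I hall a).fin _).trans U.2.2⟩
  one_smul U := Subtype.ext (ti_fixed I h1 h3 (lat_spec I hall 1) U.2.1)
  mul_smul a b U := Subtype.ext (lInd_unique I h1 h3 (lat_spec I hall (a * b))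
    ((lat_spec I hall a).mul I.model.surj (lat_spec I hall b)) U.2.1)

theorem autAction_val (I : PolInst p Φ ρ ι ρ' π w ε K) (h1 : 1 ≤ K) (h3 : 3 ≤ Nat.card (Φ.X 1))
    (hall : ∀ a : MulAut S, ∃ M : V ≃+ V, SemiAct Φ M ∧ Induces ρ' π M a) (k : ℕ) (a : MulAut S) (U : Φ.X k)
    {f : Submodule F V ≃o Submodule F V} (hf : LInd Φ ρ' π a f) :
    (letI := autAction I h1 h3 hall k; (a • U).1) = f U.1 :=
  lInd_unique I h1 h3 (lat_spec I hall a) hf U.2.1

/-- semisimilarities act as they should -/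
theorem autAction_semi (I : PolInst p Φ ρ ι ρ' π w ε K) (h1 : 1 ≤ K) (h3 : 3 ≤ Nat.card (Φ.X 1))
    (hall : ∀ a : MulAut S, ∃ M : V ≃+ V, SemiAct Φ M ∧ Induces ρ' π M a) (k : ℕ) (a : MulAut S) (U : Φ.X k)
    {M : V ≃+ V} (hM : SemiAct Φ M) (hi : Induces ρ' π M a) :
    (letI := autAction I h1 h3 hall k; (a • U).1) = hM.sub U.1 := by
  obtain ⟨f, hf, hfM⟩ : ∃ f : Submodule F V ≃o Submodule F V, LInd Φ ρ' π a f ∧ ∀ U, f U = hM.sub U :=
    exists_lInd' I.model hM hi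
  rw [autAction_val I h1 h3 hall k a U hf, hfM]

/-- inner automorphisms -/
theorem conj_smul (I : PolInst p Φ ρ ι ρ' π w ε K) (h1 : 1 ≤ K) (h3 : 3 ≤ Nat.card (Φ.X 1))
    (hall : ∀ a : MulAut S, ∃ M : V ≃+ V, SemiAct Φ M ∧ Induces ρ' π M a) (k : ℕ) (s : S) (U : Φ.X k) :
    (letI := autAction I h1 h3 hall k; (MulAut.conj s : MulAut S) • U) = (letI := I.model.mulAction k; s • U) := by
  obtain ⟨g, rfl⟩ := I.model.surj s
  apply Subtype.ext
  rw [autAction_val I h1 h3 hall k _ U (LInd.of_map I.model g), I.model.smul_eq k g U]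
  rfl

/-- `MulAut S` acts by automorphisms of the polar space -/
theorem autAct (I : PolInst p Φ ρ ι ρ' π w ε K) (h1 : 1 ≤ K) (h3 : 3 ≤ Nat.card (Φ.X 1))
    (hall : ∀ a : MulAut S, ∃ M : V ≃+ V, SemiAct Φ M ∧ Induces ρ' π M a) :
    letI := fun j => autAction I h1 h3 hall j; Act Φ (MulAut S) := by
  let _ := fun j => autAction I h1 h3 hall j
  exact ⟨fun a => ⟨lat I hall a, (lat_spec I hall a).fin, (lat_spec I hall a).orth, fun j U => rfl⟩⟩

end inst

end Cfsg.Agent.H221.CY
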