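import Mathlib
import Cfsg.Agent.H221.CY.Act
import Cfsg.Agent.H31.BR.PolRow
import Cfsg.Agent.Characters.GaloisBasic

/-!
# S4829, polar spaces: orbitals, transitivity, constituents (helper221)
-/

set_option autoImplicit false
set_option linter.unusedSectionVars false

open Module Subgroup Cfsg
open Cfsg.Agent.H2.Pol Cfsg.Agent.H674.BR Cfsg.Agent.H646.BR Cfsg.Agent.H145.BR Cfsg.Agent.H623.BR
open Cfsg.Agent.H31.BR Cfsg.Agent.H770.CY Cfsg.Agent.Characters

namespace Cfsg.Agent.H221.CY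

universe u

/-- integer valued characters are `Cyc p` -/
theorem cyc_of_int {p : ℕ} {G : Type u} [Group G] [Finite G] {χ : G → ℂ} (hχ : IsCharacter G χ)
    (h : ∀ g, ∃ z : ℤ, χ g = z) : Cyc p χ := by
  intro k hk _ g
  obtain ⟨σ, hσ⟩ := GaloisBasic.exists_ringEquiv_pow (Nat.card_pos (α := G)).ne' hk
  have h3 : (σ : ℂ →+* ℂ) (χ g) = χ (g ^ k) :=
    GaloisBasic.map_apply (σ : ℂ →+* ℂ) (m := k) (n := Nat.card G) hσ hχ (Nat.card_pos (α := G)).ne' pow_card_eq_one'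
  obtain ⟨z, hz⟩ := h g
  rw [← h3, hz, map_intCast]

variable {p : ℕ} {F V : Type*} {G H : Type*} {S : Type u} [Field F] [Fintype F] [AddCommGroup V] [Module F V]
  [FiniteDimensional F V] [Group G] [Group H] [Group S] {Φ : Pol F V} {ρ : G →* (V ≃ₗ[F] V)} {ι : H →* G}
  {ρ' : H →* (V ≃ₗ[F] V)} {π : H →* S} {w ε K : ℕ}

/-- `Inn S` is transitive on `X k` -/
theorem exists_conj (I : PolInst p Φ ρ ι ρ' π w ε K) (h1 : 1 ≤ K) (h3 : 3 ≤ Nat.card (Φ.X 1))
    (hall : ∀ a : MulAut S, ∃ M : V ≃+ V, SemiAct Φ M ∧ Induces ρ' π M a) {k : ℕ} (hk1 : 1 ≤ k) (hk : k ≤ K)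
    (x y : Φ.X k) : letI := autAction I h1 h3 hall k; ∃ g : S, (MulAut.conj g : MulAut S) • x = y := by
  let _ := I.model.mulAction k
  have _ := I.pretransitive hk1 hk
  obtain ⟨g, hg⟩ := MulAction.exists_smul_eq S x y
  exact ⟨g, (conj_smul I h1 h3 hall k g x).trans hg⟩

/-- automorphisms preserve the orbitals of `S` -/
theorem exists_orbital (I : PolInst p Φ ρ ι ρ' π w ε K) (h1 : 1 ≤ K) (h3 : 3 ≤ Nat.card (Φ.X 1))
    (hall : ∀ a : MulAut S, ∃ M : V ≃+ V, SemiAct Φ M ∧ Induces ρ' π M a) {k : ℕ} (hk1 : 1 ≤ k) (hk : k ≤ K)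
    (a : MulAut S) (x y : Φ.X k) :
    letI := autAction I h1 h3 hall k; ∃ g : S, (MulAut.conj g : MulAut S) • x = a • x ∧
      (MulAut.conj g : MulAut S) • y = a • y := by
  let _ := fun j => autAction I h1 h3 hall j
  have h4 : typ Φ x.1 y.1 = typ Φ (a • x : Φ.X k).1 (a • y : Φ.X k).1 := ((autAct I h1 h3 hall).typ_smul a x y).symm
  obtain ⟨g, e1, e2⟩ := I.pair k hk1 hk x y (a • x) (a • y) h4
  refine ⟨π g, ?_, ?_⟩
  · exact (conj_smul I h1 h3 hall k (π g) x).trans ((I.model.smul_eq k g x).trans (Subtype.ext e1))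
  · exact (conj_smul I h1 h3 hall k (π g) y).trans ((I.model.smul_eq k g y).trans (Subtype.ext e2))

/-- the permutation character in terms of the automorphisms -/
theorem permC_conj (I : PolInst p Φ ρ ι ρ' π w ε K) (h1 : 1 ≤ K) (h3 : 3 ≤ Nat.card (Φ.X 1))
    (hall : ∀ a : MulAut S, ∃ M : V ≃+ V, SemiAct Φ M ∧ Induces ρ' π M a) (k : ℕ) (s : S) :
    (letI := autAction I h1 h3 hall k; permC (MulAut S) (Φ.X k) (MulAut.conj s)) =
      (letI := I.model.mulAction k; permC S (Φ.X k) s) := by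
  show (Nat.card _ : ℂ) = (Nat.card _ : ℂ)
  congr 1
  refine Nat.card_congr (Equiv.subtypeEquivRight fun U => ?_)
  have h4 := conj_smul I h1 h3 hall k s U
  exact ⟨fun h => h4.symm.trans h, fun h => h4.trans h⟩

/-- the constituents are `Cyc p` -/
theorem cyc_constituent [Fintype S] (I : PolInst p Φ ρ ι ρ' π w ε K) {k : ℕ} (hk : k ≤ K)
    (χ : IrrCharacter S) (h : letI := I.model.mulAction k; classInner (permC S (Φ.X k)) (χ : S → ℂ) ≠ 0) :
    Cyc p (χ : S → ℂ) :=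
  cyc_of_int (Core.isIrr_isCharacter χ.2) fun g => I.int hk χ h g

end Cfsg.Agent.H221.CY
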