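import Mathlib
import Cfsg.Agent.H31.BR.PolInst

/-!
# S4829, polar spaces: at least three points (helper221)
-/

set_option autoImplicit false

open Module Subgroup Cfsg
open Cfsg.Agent.H2.Pol Cfsg.Agent.H674.BR Cfsg.Agent.H31.BR

namespace Cfsg.Agent.H221.CY

universe u

variable {p : ℕ} {F V : Type*} {G H : Type*} {S : Type u} [Field F] [Fintype F] [AddCommGroup V] [Module F V]
  [FiniteDimensional F V] [Group G] [Group H] [Group S] {Φ : Pol F V} {ρ : G →* (V ≃ₗ[F] V)} {ι : H →* G}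
  {ρ' : H →* (V ≃ₗ[F] V)} {π : H →* S} {w ε K : ℕ}

/-- at least three points -/
theorem three_le (I : PolInst p Φ ρ ι ρ' π w ε K) (hw : 2 ≤ w) : 3 ≤ Nat.card (Φ.X 1) := by
  have h1 := I.card 1 (by omega)
  have hq : 2 ≤ Nat.card F := Finite.one_lt_card
  simp only [Finset.range_one, Finset.prod_singleton, zero_add, pow_one, Nat.sub_zero] at h1
  set q := Nat.card F with hq'
  set c := Nat.card (Φ.X 1) with hc
  by_contra hcon
  have h2 : c ≤ 2 := by omega
  have h3 : q ^ 2 ≤ q ^ w := Nat.pow_le_pow_right (by omega) hw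
  have h4 : 2 ≤ q ^ (w - 1 + ε) + 1 := by
    have : 1 ≤ q ^ (w - 1 + ε) := Nat.one_le_pow _ _ (by omega)
    omega
  have h5 : (q - 1) * (q + 1) ≤ q ^ w - 1 := by
    have h6 : (q - 1) * (q + 1) = q ^ 2 - 1 := by
      have := Nat.sq_sub_sq q 1
      rw [one_pow, mul_comm] at this
      exact this.symm
    omega
  have h6 : (q - 1) * (q + 1) * 2 ≤ (q ^ w - 1) * (q ^ (w - 1 + ε) + 1) := Nat.mul_le_mul h5 h4
  have h7 : c * (q - 1) ≤ 2 * (q - 1) := Nat.mul_le_mul_right _ h2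
  rw [h1] at h7
  have h8 : (q - 1) * (q + 1) * 2 ≤ (q - 1) * 2 := by
    calc (q - 1) * (q + 1) * 2 ≤ _ := h6
      _ ≤ 2 * (q - 1) := h7
      _ = (q - 1) * 2 := mul_comm _ _
  have h9 : (q - 1) * 3 * 2 ≤ (q - 1) * (q + 1) * 2 :=
    Nat.mul_le_mul_right _ (Nat.mul_le_mul_left _ (by omega))
  have h10 : 0 < q - 1 := by omega
  have h11 : (q - 1) * 3 * 2 ≤ (q - 1) * 2 := h9.trans h8
  nlinarith

end Cfsg.Agent.H221.CY
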