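import Mathlib
import Cfsg.Agent.H221.CY.Prep
import Cfsg.Agent.H221.CY.Three
import Cfsg.Agent.H598.CY.Orb

/-!
# S4829, polar spaces: `p` divides the number of totally singular `k`-spaces (helper221)

`rowA_of_dvd` : for a `PolInst` all of whose automorphisms come from semisimilarities, of rank at least 2, and `k ≤ K` with
`p ∣ Nat.card (Φ.X k)`, the row `RowA p S` holds.

`rowA_of_triv` : the same if `Nat.card (Φ.X k)` is not `1` modulo `p` and every automorphism which centralizes a Sylow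
subgroup fixes the totally singular `k`-spaces fixed by it.

`rowA_of_cnt` : the general form.
-/

set_option autoImplicit false
set_option linter.unusedSectionVars false

open Module Subgroup Cfsg
open Cfsg.Agent.H2.Pol Cfsg.Agent.H674.BR Cfsg.Agent.H646.BR Cfsg.Agent.H145.BR Cfsg.Agent.H623.BR
open Cfsg.Agent.H31.BR Cfsg.Agent.H770.CY

namespace Cfsg.Agent.H221.CY

universe u

variable {p : ℕ} [hp : Fact p.Prime] {F V : Type*} {G H : Type*} {S : Type u} [Field F] [Fintype F] [AddCommGroup V]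
  [Module F V] [FiniteDimensional F V] [Group G] [Group H] [Group S] {Φ : Pol F V} {ρ : G →* (V ≃ₗ[F] V)} {ι : H →* G}
  {ρ' : H →* (V ≃ₗ[F] V)} {π : H →* S} {w ε K : ℕ}

theorem nonempty_X (I : PolInst p Φ ρ ι ρ' π w ε K) {k : ℕ} (hk : k ≤ K) : Nonempty (Φ.X k) :=
  (Nat.card_pos_iff.1 (CC.pos I.card Finite.one_lt_card (hk.trans I.K_le))).1

/-- the constituents of the permutation character in terms of the automorphisms -/
theorem cyc_conj [Fintype S] (I : PolInst p Φ ρ ι ρ' π w ε K) (h1 : 1 ≤ K) (h3 : 3 ≤ Nat.card (Φ.X 1))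
    (hall : ∀ a : MulAut S, ∃ M : V ≃+ V, SemiAct Φ M ∧ Induces ρ' π M a) {k : ℕ} (hk : k ≤ K) (θ : IrrCharacter S)
    (h : letI := autAction I h1 h3 hall k
      classInner (fun s : S => permC (MulAut S) (Φ.X k) (MulAut.conj s)) (θ : S → ℂ) ≠ 0) : Cyc p (θ : S → ℂ) := by
  refine cyc_constituent I hk θ ?_
  have h4 : (letI := autAction I h1 h3 hall k; fun s : S => permC (MulAut S) (Φ.X k) (MulAut.conj s)) =
      (letI := I.model.mulAction k; permC S (Φ.X k)) := funext fun s => permC_conj I h1 h3 hall k s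
  rw [← h4]
  exact h

/-- **`p` divides the number of totally singular `k`-spaces** -/
theorem rowA_of_dvd [Fintype S] [IsSimpleGroup S] (hnc : ¬ IsMulCommutative S) (I : PolInst p Φ ρ ι ρ' π w ε K)
    (hall : ∀ a : MulAut S, ∃ M : V ≃+ V, SemiAct Φ M ∧ Induces ρ' π M a) (hw : 2 ≤ w) {k : ℕ} (hk1 : 1 ≤ k) (hk : k ≤ K)
    (hd : p ∣ Nat.card (Φ.X k)) : RowA p S := by
  have h1 : 1 ≤ K := hk1.trans hk
  have h3 := three_le I hw
  let _ := autAction I h1 h3 hall k
  have _ := nonempty_X I hk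
  exact Cfsg.Agent.H598.CY.rowA_of_dvd (Ω := Φ.X k) hnc (exists_conj I h1 h3 hall hk1 hk)
    (fun a x y => exists_orbital I h1 h3 hall hk1 hk a x y) (fun θ h => cyc_conj I h1 h3 hall hk θ h) hd

/-- **the centralizer of a Sylow subgroup fixes its fixed points** -/
theorem rowA_of_triv [Fintype S] [IsSimpleGroup S] (hnc : ¬ IsMulCommutative S) (I : PolInst p Φ ρ ι ρ' π w ε K)
    (hall : ∀ a : MulAut S, ∃ M : V ≃+ V, SemiAct Φ M ∧ Induces ρ' π M a) (hw : 2 ≤ w) {k : ℕ} (hk1 : 1 ≤ k) (hk : k ≤ K)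
    (htriv : ∀ (Q : Sylow p S) (a : MulAut S), (∀ x ∈ Q, a x = x) → ∀ (M : V ≃+ V) (hM : SemiAct Φ M), Induces ρ' π M a →
      ∀ U : Φ.X k, (∀ h : H, π h ∈ Q → U.1.map (ρ' h : V →ₗ[F] V) = U.1) → hM.sub U.1 = U.1)
    (hd : ¬ Nat.card (Φ.X k) ≡ 1 [MOD p]) : RowA p S := by
  have h1 : 1 ≤ K := hk1.trans hk
  have h3 := three_le I hw
  let _ := autAction I h1 h3 hall k
  have _ := nonempty_X I hk
  refine Cfsg.Agent.H598.CY.rowA_of_triv (Ω := Φ.X k) hnc (exists_conj I h1 h3 hall hk1 hk)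
    (fun a x y => exists_orbital I h1 h3 hall hk1 hk a x y) (fun θ h => cyc_conj I h1 h3 hall hk θ h) ?_ hd
  intro Q a ha U hU
  obtain ⟨M, hM, hi⟩ := hall a
  apply Subtype.ext
  rw [autAction_semi I h1 h3 hall k a U hM hi]
  refine htriv Q a ha M hM hi U fun g hg => ?_
  have h4 := hU (π g) hg
  rw [conj_smul I h1 h3 hall k (π g) U] at h4
  exact (congrArg Subtype.val (I.model.smul_eq k g U)).symm.trans (congrArg Subtype.val h4)

end Cfsg.Agent.H221.CY
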